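import Cfsg.Agent.H614.Chars
import Cfsg.Agent.SporadicRecognition.AltCover
set_option linter.all false

/-!
# S4578: the structures of tasks F2, F3, F4 (basic spin representation and spin data)

The text is that of the stub file `tools/plans/S4578_Stubs.lean.txt`.
-/

set_option autoImplicit false

namespace Cfsg.Agent.H686.Spin

open Finset Cfsg Cfsg.Agent.H614

/-- A double cover `T` of the symmetric group of degree `n` with a spin character `b`
(the restriction of the basic spin character of the double cover of `A_{n+2}` to the preimage of the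
"twisted" `S_n`). -/
structure SpinData (n : ℕ) {T : Type} [Group T] [Finite T] (P : T →* Equiv.Perm (Fin n)) (z : T)
    (b : T → ℂ) : Prop where
  surj : Function.Surjective P
  z_ne : z ≠ 1
  z_comm : ∀ x, x * z = z * x
  ker : ∀ x, P x = 1 ↔ x = 1 ∨ x = z
  isClass : IsClassFunction T b
  neg : ∀ x, b (z * x) = -b x
  sq : ∀ x, (∀ i ∈ ty (P x), Odd i) →
    b x * (starRingEnd ℂ) (b x) = 2 ^ (Multiset.card (ty (P x)) + if Even n then 2 else 1)
  van : ∀ x, ¬ (∀ i ∈ ty (P x), Odd i) → b x = 0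
  one_pos : ∃ k : ℕ, b 1 = 2 ^ k
  divT : ∀ (m : ℕ) (a : Fin m → ℕ), ∑ j, a j = n → ∃ θ : T → ℂ, IsCharacter T θ ∧
    ∀ x, b x * cnt (P x) a =
      2 ^ ((#{j | a j ≠ 0} + if Even n then 2 else 1) / 2) * θ x
  divH : ∀ (m : ℕ) (a : Fin m → ℕ), ∑ j, a j = n →
    ∃ θ : ((alternatingGroup (Fin n)).comap P : Subgroup T) → ℂ,
      IsCharacter ((alternatingGroup (Fin n)).comap P : Subgroup T) θ ∧
      ∀ x : ((alternatingGroup (Fin n)).comap P : Subgroup T), b (x : T) * cnt (P (x : T)) a =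
        2 ^ ((#{j | a j ≠ 0} + 1 + if Even n then 2 else 1) / 2) * θ x

/-- The basic spin representation with its gamma matrices. -/
structure SpinRep {N : ℕ} {G : Type*} [Group G] (π : G →* alternatingGroup (Fin N)) (z : G)
    {ι : Type} [Fintype ι] [DecidableEq ι] (γ : Fin N → Matrix ι ι ℂ)
    (f : G →* (Matrix ι ι ℂ)ˣ) : Prop where
  card : Fintype.card ι = 2 ^ (N / 2)
  sq : ∀ i, γ i * γ i = -1
  anti : ∀ i j, i ≠ j → γ i * γ j = -(γ j * γ i)
  equiv : ∀ g i, (f g : Matrix ι ι ℂ) * γ i = γ ((π g : Equiv.Perm (Fin N)) i) * (f g : Matrix ι ι ℂ)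
  map_z : (f z : Matrix ι ι ℂ) = -1
  scalar : ∀ A : Matrix ι ι ℂ, (∀ i, A * γ i = γ i * A) → ∃ c : ℂ, A = c • (1 : Matrix ι ι ℂ)

end Cfsg.Agent.H686.Spin
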